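import Groth.Prelude.Def_LefMon
import Groth.Agent.EtBCA.Hpull

/-! functoriality of the pullback on cohomology with constant coefficients -/

set_option autoImplicit false

universe u

open CategoryTheory CategoryTheory.Limits AlgebraicGeometry Opposite

namespace Groth.Agent.EtAdicLib

set_option backward.isDefEq.respectTransparency.types false

variable {X Y Z : Scheme.{u}} (ℓ : ℕ)

theorem pullConst_comp_hom (k : X ⟶ Y) (t : Y ⟶ Z) (M : Type) [AddCommGroup M] :
    (EtCore.pullConst (k ≫ t) M).hom =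
      (EtCore.pullComp k t).hom.app (EtCoh.const Z M) ≫
        (EtCoh.pull k).map (EtCore.pullConst t M).hom ≫ (EtCore.pullConst k M).hom := by
  rw [← cancel_epi (EtCore.pullConst (k ≫ t) M).inv, Iso.inv_hom_id, ← Category.assoc,
    EtBCA.pullConst_comp, Category.assoc, ← (EtCoh.pull k).map_comp_assoc, Iso.inv_hom_id,
    CategoryTheory.Functor.map_id, Category.id_comp, Iso.inv_hom_id]

theorem hmap_congr {f g : X ⟶ Y} (e : f = g) (hf : PreservesFiniteLimits (EtCoh.pull f))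
    (hg : PreservesFiniteLimits (EtCoh.pull g)) (i ν : ℕ) (x : EtAdic.Hmod Y ℓ i ν) :
    EtAdic.Hmap ℓ f hf i ν x = EtAdic.Hmap ℓ g hg i ν x := by
  subst e; rfl

theorem hmap_comp (k : X ⟶ Y) (t : Y ⟶ Z) (hk : PreservesFiniteLimits (EtCoh.pull k))
    (ht : PreservesFiniteLimits (EtCoh.pull t)) (hkt : PreservesFiniteLimits (EtCoh.pull (k ≫ t)))
    (i ν : ℕ) (x : EtAdic.Hmod Z ℓ i ν) :
    EtAdic.Hmap ℓ (k ≫ t) hkt i ν x = EtAdic.Hmap ℓ k hk i ν (EtAdic.Hmap ℓ t ht i ν x) := by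
  change (EtCoh.HF X i).map (EtCore.pullConst (k ≫ t) (ZMod (ℓ ^ ν))).hom (EtCore.Hpull (k ≫ t) _ i x) =
    (EtCoh.HF X i).map (EtCore.pullConst k (ZMod (ℓ ^ ν))).hom (EtCore.Hpull k _ i
      ((EtCoh.HF Y i).map (EtCore.pullConst t (ZMod (ℓ ^ ν))).hom (EtCore.Hpull t _ i x)))
  rw [EtBCA.Hpull_natural, pullConst_comp_hom, Functor.map_comp, Functor.map_comp]
  exact congrArg (fun z => (EtCoh.HF X i).map (EtCore.pullConst k (ZMod (ℓ ^ ν))).hom
    ((EtCoh.HF X i).map ((EtCoh.pull k).map (EtCore.pullConst t (ZMod (ℓ ^ ν))).hom) z)) (EtBCA.Hpull_comp k t _ i x)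

end Groth.Agent.EtAdicLib
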